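import Groth.Agent.Sga2lef.H96.ModSysRec

/-!
# Completion and restriction to a neighbourhood
-/

set_option autoImplicit false
universe u

open CategoryTheory AlgebraicGeometry Opposite

namespace Groth.Agent.Sga2lef.H103.CmIso

open AlgebraicGeometry.Scheme.Modules FSch
open Groth.Agent.Sga2lef.H96.Transp Groth.Agent.Sga2lef.H96.ModSysRec

theorem qq_naturality {X Y Z : Scheme.{u}} (τ : Z ⟶ Y) (g : Y ⟶ X) (h : Z ⟶ X) (w : τ ≫ g = h)
    {M N : X.Modules} (φ : M ⟶ N) :
    (Scheme.Modules.pullback τ).map ((Scheme.Modules.pullback g).map φ) ≫ (qq τ g h w N).hom =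
      (qq τ g h w M).hom ≫ (Scheme.Modules.pullback h).map φ := by
  simp only [qq, Iso.trans_hom, Iso.app_hom, Category.assoc]
  rw [← (pullbackCongr w).hom.naturality φ, ← Category.assoc, ← Category.assoc]
  congr 1
  exact (pullbackComp τ g).hom.naturality φ

/-- A map of modules which is invertible on every infinitesimal neighbourhood induces an isomorphism of the
completions. -/
theorem nonempty_completionMod_iso {X : Scheme.{u}} (𝓘 : X.IdealSheafData) {F G : X.Modules}
    (φ : F ⟶ G) (h : ∀ n, IsIso ((Scheme.Modules.pullback (completionToX X 𝓘 n)).map φ)) :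
    Nonempty (completionMod 𝓘 F ≅ completionMod 𝓘 G) := by
  rw [completionMod_eq, completionMod_eq]
  refine nonempty_iso_of_app (𝔐 := cmOf 𝓘 F (fun n =>
    qq ((completionAlong X 𝓘).ι n) (completionToX X 𝓘 (n + 1)) (completionToX X 𝓘 n)
      (ι_toX 𝓘 n) F)) (𝔑 := cmOf 𝓘 G (fun n =>
    qq ((completionAlong X 𝓘).ι n) (completionToX X 𝓘 (n + 1)) (completionToX X 𝓘 n)
      (ι_toX 𝓘 n) G)) (fun n => (Scheme.Modules.pullback (completionToX X 𝓘 n)).map φ) h
      (fun n => ?_)
  exact qq_naturality ((completionAlong X 𝓘).ι n) (completionToX X 𝓘 (n + 1)) (completionToX X 𝓘 n)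
    (ι_toX 𝓘 n) φ

/-- Pullback along a morphism factoring over an open subscheme inverts the unit of restriction. -/
theorem isIso_pullback_map_unit {X Z : Scheme.{u}} (U : X.Opens) (i : Z ⟶ X) (j : Z ⟶ U)
    (w : j ≫ U.ι = i) (F : X.Modules) :
    IsIso ((Scheme.Modules.pullback i).map ((restrictAdjunction U.ι).unit.app F)) := by
  subst w
  have h1 : IsIso ((restrictFunctor U.ι).map ((restrictAdjunction U.ι).unit.app F)) := by
    have := (restrictAdjunction U.ι).left_triangle_components F
    have h2 : IsIso ((restrictAdjunction U.ι).counit.app ((restrictFunctor U.ι).obj F)) :=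
      inferInstance
    exact IsIso.of_isIso_fac_right this
  have h2 : IsIso ((Scheme.Modules.pullback U.ι).map ((restrictAdjunction U.ι).unit.app F)) := by
    rwa [← NatIso.isIso_map_iff (restrictFunctorIsoPullback U.ι)]
  rw [← NatIso.isIso_map_iff (pullbackComp j U.ι)]
  exact Functor.map_isIso (Scheme.Modules.pullback j) _

/-- The completion only depends on the restriction to a neighbourhood of the support. -/
theorem nonempty_completionMod_pushforward {X : Scheme.{u}} (𝓘 : X.IdealSheafData) (F : X.Modules)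
    (U : X.Opens) (hU : (𝓘.support : Set X) ⊆ (U : Set X)) :
    Nonempty (completionMod 𝓘 ((Scheme.Modules.pushforward U.ι).obj (F.restrict U.ι)) ≅
      completionMod 𝓘 F) := by
  obtain ⟨e⟩ := nonempty_completionMod_iso 𝓘 ((restrictAdjunction U.ι).unit.app F) (fun n => by
    have hr : Set.range (completionToX X 𝓘 n) ⊆ Set.range U.ι := by
      rw [Scheme.Opens.range_ι]
      refine subset_trans ?_ hU
      have h1 := Scheme.IdealSheafData.range_subschemeι (𝓘 ^ (n + 1))
      rw [Scheme.IdealSheafData.support_pow_succ] at h1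
      exact h1.le
    exact isIso_pullback_map_unit U _ (IsOpenImmersion.lift U.ι (completionToX X 𝓘 n) hr)
      (IsOpenImmersion.lift_fac _ _ _) F)
  exact ⟨e.symm⟩

end Groth.Agent.Sga2lef.H103.CmIso
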